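import Groth.Prelude.Def_W4c3severiratdpLat
import Mathlib.Data.Fin.Tuple.Sort
import Mathlib.GroupTheory.Perm.Fin
import Mathlib.Algebra.BigOperators.Group.List.Basic
import Mathlib.Tactic.Ring
import Mathlib.Tactic.Abel
import Mathlib.Data.List.GetD
import Mathlib.Tactic.Linarith

/-!
# Isometries of del Pezzo lattices fixing a set of vectors, and enumeration of classes
-/

namespace Groth.Agent.H28DP

open W4c3severiratdp

variable {δ : ℕ}

lemma form_comm (v w : DP δ) : form v w = form w v := by
  unfold form; simp [mul_comm]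

lemma form_add_left (u v w : DP δ) : form (u + v) w = form u w + form v w := by
  unfold form; simp only [Pi.add_apply, add_mul, Finset.sum_add_distrib]; ring

lemma form_smul_left (c : ℤ) (v w : DP δ) : form (c • v) w = c * form v w := by
  unfold form
  simp only [Pi.smul_apply, smul_eq_mul, mul_assoc, ← Finset.mul_sum]
  ring

lemma form_add_right (u v w : DP δ) : form u (v + w) = form u v + form u w := by
  rw [form_comm, form_add_left, form_comm v, form_comm w]

lemma form_sub_right (u v w : DP δ) : form u (v - w) = form u v - form u w := by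
  have h := form_add_right u (v - w) w
  rw [sub_add_cancel] at h
  omega

lemma form_sub_left (u v w : DP δ) : form (u - v) w = form u w - form v w := by
  rw [form_comm, form_sub_right, form_comm w, form_comm w]

lemma form_smul_right (c : ℤ) (v w : DP δ) : form v (c • w) = c * form v w := by
  rw [form_comm, form_smul_left, form_comm]

/-- A root orthogonal to the canonical class. -/
def IsRoot (α : DP δ) : Prop := form α α = -2 ∧ form (canon δ) α = 0

/-- The reflection in a root. -/
def reflect (α : DP δ) (h : IsRoot α) : DP δ ≃ₗ[ℤ] DP δ where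
  toFun v := v + form v α • α
  map_add' u v := by rw [form_add_left, add_smul]; abel
  map_smul' c v := by simp only [form_smul_left, smul_add, mul_smul, RingHom.id_apply]
  invFun v := v + form v α • α
  left_inv v := by
    simp only [form_add_left, form_smul_left, h.1, add_smul, mul_smul, add_assoc]
    simp only [← add_smul, ← mul_smul]
    rw [show form v α + (form v α + form v α * -2) = 0 by ring, zero_smul, add_zero]
  right_inv v := by
    simp only [form_add_left, form_smul_left, h.1, add_smul, mul_smul, add_assoc]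
    simp only [← add_smul, ← mul_smul]
    rw [show form v α + (form v α + form v α * -2) = 0 by ring, zero_smul, add_zero]

lemma reflect_apply (α : DP δ) (h : IsRoot α) (v : DP δ) : reflect α h v = v + form v α • α := rfl

lemma isWeyl_reflect (α : DP δ) (h : IsRoot α) : IsWeyl (reflect α h) := by
  refine ⟨fun v w => ?_, ?_⟩
  · simp only [reflect_apply, form_add_left, form_add_right, form_smul_left, form_smul_right, h.1,
      form_comm α w]
    ring
  · rw [reflect_apply, h.2, zero_smul, add_zero]

/-- Permutation of the exceptional coordinates. -/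
def permute (σ : Equiv.Perm (Fin δ)) : DP δ ≃ₗ[ℤ] DP δ :=
  LinearEquiv.funCongrLeft ℤ ℤ (Equiv.Perm.decomposeFin.symm (0, σ))

lemma permute_zero (σ : Equiv.Perm (Fin δ)) (v : DP δ) : permute σ v 0 = v 0 := by
  simp [permute, LinearEquiv.funCongrLeft_apply, LinearMap.funLeft_apply]

lemma permute_succ (σ : Equiv.Perm (Fin δ)) (v : DP δ) (i : Fin δ) :
    permute σ v i.succ = v (σ i).succ := by
  simp [permute, LinearEquiv.funCongrLeft_apply, LinearMap.funLeft_apply]

lemma isWeyl_permute (σ : Equiv.Perm (Fin δ)) : IsWeyl (permute σ) := by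
  refine ⟨fun v w => ?_, ?_⟩
  · simp only [form, permute_zero, permute_succ]
    rw [Equiv.sum_comp σ (fun i => v i.succ * w i.succ)]
  · funext i
    cases i using Fin.cases with
    | zero => exact permute_zero σ _
    | succ i => rw [permute_succ]; rfl

/-- Two pairs are in the same orbit of the stabilizer of `F`. -/
def Conn (F : DP δ → Prop) (v w : DP δ) : Prop :=
  ∃ g : DP δ ≃ₗ[ℤ] DP δ, IsWeyl g ∧ (∀ f, F f → g f = f) ∧ g v = w

namespace Conn

variable {F : DP δ → Prop} {u v w : DP δ}

protected lemma refl (v : DP δ) : Conn F v v :=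
  ⟨LinearEquiv.refl ℤ _, ⟨fun _ _ => rfl, rfl⟩, fun _ _ => rfl, rfl⟩

protected lemma trans : Conn F u v → Conn F v w → Conn F u w
  | ⟨g, hg, hgF, e⟩, ⟨g', hg', hgF', e'⟩ =>
    ⟨g.trans g', ⟨fun a b => by simp [hg'.1, hg.1], by simp [hg.2, hg'.2]⟩,
      fun f hf => by simp [hgF f hf, hgF' f hf], by simp [e, e']⟩

protected lemma symm : Conn F v w → Conn F w v
  | ⟨g, hg, hgF, e⟩ => by
    refine ⟨g.symm, ⟨fun a b => ?_, ?_⟩, fun f hf => ?_, ?_⟩
    · conv_rhs => rw [← g.apply_symm_apply a, ← g.apply_symm_apply b]
      rw [hg.1]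
    · exact g.symm_apply_eq.2 hg.2.symm
    · exact g.symm_apply_eq.2 (hgF f hf).symm
    · exact g.symm_apply_eq.2 e.symm

lemma form_eq {f : DP δ} (hf : F f) : Conn F v w → form f w = form f v
  | ⟨g, hg, hgF, e⟩ => by rw [← e, ← hg.1 f v, hgF f hf]

lemma form_self_eq : Conn F v w → form w w = form v v
  | ⟨g, hg, _, e⟩ => by rw [← e, hg.1]

lemma canon_eq : Conn F v w → form (canon δ) w = form (canon δ) v
  | ⟨g, hg, _, e⟩ => by rw [← e, ← hg.1 (canon δ) v, hg.2]

lemma of_reflect (α : DP δ) (h : IsRoot α) (hF : ∀ f, F f → form f α = 0) (v : DP δ) :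
    Conn F v (v + form v α • α) :=
  ⟨reflect α h, isWeyl_reflect α h, fun f hf => by rw [reflect_apply, hF f hf, zero_smul, add_zero], rfl⟩

/-- Reflection exchanging two classes. -/
lemma of_sub (hv : form v v = -1) (hw : form w w = -1) (hK : form (canon δ) v = form (canon δ) w)
    (h : form v w = 0) (hF : ∀ f, F f → form f v = form f w) : Conn F v w := by
  have hr : IsRoot (v - w) := by
    refine ⟨?_, by rw [form_sub_right, hK, sub_self]⟩
    rw [form_sub_left, form_sub_right, form_sub_right, form_comm w v, hv, hw, h]; norm_num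
  have h1 := of_reflect (v - w) hr (fun f hf => by rw [form_sub_right, hF f hf, sub_self]) v
  have e : v + form v (v - w) • (v - w) = w := by
    rw [form_sub_right, hv, h]; simp
  rwa [e] at h1

end Conn

/-- A vector from a list. -/
def toVec (δ : ℕ) (l : List ℤ) : DP δ := fun i => l.getD i 0

lemma toVec_ofFn (v : DP δ) : toVec δ (List.ofFn v) = v := by
  funext i
  simp only [toVec]
  rw [List.getD_eq_getElem _ _ (by rw [List.length_ofFn]; exact i.isLt), List.getElem_ofFn]

/-- Non-increasing lists with prescribed length, sum and sum of squares. -/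
def enum : ℕ → ℤ → ℤ → ℤ → List (List ℤ)
  | 0, s, q, _ => if s = 0 ∧ q = 0 then [[]] else []
  | r + 1, s, q, hi => (((List.range 24).map fun k : ℕ => (k : ℤ) - 12).filter fun b =>
      decide (b ≤ hi ∧ b * b ≤ q ∧ (s - b) * (s - b) ≤ (r : ℤ) * (q - b * b))).flatMap
        fun b => (enum r (s - b) (q - b * b) b).map (List.cons b)

/-- All lists with prescribed length, sum and sum of squares. -/
def enumAll : ℕ → ℤ → ℤ → List (List ℤ)
  | 0, s, q => if s = 0 ∧ q = 0 then [[]] else []
  | r + 1, s, q => (((List.range 24).map fun k : ℕ => (k : ℤ) - 12).filter fun b =>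
      decide (b * b ≤ q ∧ (s - b) * (s - b) ≤ (r : ℤ) * (q - b * b))).flatMap
        fun b => (enumAll r (s - b) (q - b * b)).map (List.cons b)

lemma sq_sum_le (l : List ℤ) : l.sum * l.sum ≤ (l.length : ℤ) * (l.map fun b => b * b).sum := by
  induction l with
  | nil => simp
  | cons b l ih =>
    simp only [List.sum_cons, List.length_cons, List.map_cons, Nat.cast_succ]
    rcases Nat.eq_zero_or_pos l.length with h | h
    · rw [List.eq_nil_of_length_eq_zero h]; simp
    · have h0 : (0 : ℤ) < l.length := by exact_mod_cast h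
      have h2 : (l.length : ℤ) * (2 * b * l.sum) ≤
          (l.length : ℤ) * ((l.length : ℤ) * (b * b) + (l.map fun b => b * b).sum) := by
        nlinarith [sq_nonneg ((l.length : ℤ) * b - l.sum)]
      have h3 := le_of_mul_le_mul_left h2 h0
      nlinarith

lemma sumsq_nonneg (l : List ℤ) : 0 ≤ (l.map fun b => b * b).sum := by
  induction l with
  | nil => simp
  | cons b l ih => simp only [List.map_cons, List.sum_cons]; nlinarith

lemma mem_range12 {b : ℤ} (h : b * b ≤ 143) : b ∈ (List.range 24).map fun k : ℕ => (k : ℤ) - 12 := by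
  rw [List.mem_map]
  have h1 : -12 < b := by nlinarith
  have h2 : b < 12 := by nlinarith
  exact ⟨(b + 12).toNat, List.mem_range.2 (by omega), by omega⟩

lemma mem_enum : ∀ (l : List ℤ) (hi : ℤ), (l.map fun b => b * b).sum ≤ 143 →
    (hi :: l).Pairwise (· ≥ ·) → l ∈ enum l.length l.sum (l.map fun b => b * b).sum hi
  | [], hi, _, _ => by simp [enum]
  | b :: l, hi, hq, hp => by
    simp only [List.map_cons, List.sum_cons] at hq
    rw [List.pairwise_cons] at hp
    have h0 := sumsq_nonneg l
    have h1 := sq_sum_le l
    simp only [List.length_cons, List.sum_cons, List.map_cons, enum, List.mem_flatMap, List.mem_filter,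
      decide_eq_true_eq, List.mem_map]
    refine ⟨b, ⟨List.mem_map.1 (mem_range12 (by linarith)), ?_, by linarith, ?_⟩, l, ?_, rfl⟩
    · exact hp.1 b (by simp)
    · simpa using h1
    · have := mem_enum l b (by nlinarith) hp.2
      simpa using this

lemma mem_enumAll_iff : ∀ (r : ℕ) (s q : ℤ), q ≤ 143 → ∀ l : List ℤ,
    l ∈ enumAll r s q ↔ (l.length = r ∧ l.sum = s ∧ (l.map fun b => b * b).sum = q)
  | 0, s, q, _, l => by
    simp only [enumAll, List.length_eq_zero_iff]
    split_ifs with h
    · obtain ⟨rfl, rfl⟩ := h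
      constructor
      · intro hl; simp at hl; subst hl; simp
      · rintro ⟨rfl, -, -⟩; simp
    · simp only [List.not_mem_nil, false_iff]
      rintro ⟨rfl, rfl, rfl⟩
      exact h ⟨rfl, rfl⟩
  | r + 1, s, q, hq, l => by
    simp only [enumAll, List.mem_flatMap, List.mem_filter, decide_eq_true_eq, List.mem_map]
    constructor
    · rintro ⟨b, ⟨-, hb, -⟩, l', hl', rfl⟩
      obtain ⟨h1, h2, h3⟩ := (mem_enumAll_iff r (s - b) (q - b * b) (by nlinarith) l').1 hl'
      simp only [List.length_cons, List.sum_cons, List.map_cons, h1, h2, h3]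
      exact ⟨trivial, by ring, by ring⟩
    · rintro ⟨h1, h2, h3⟩
      obtain ⟨b, l', rfl⟩ : ∃ b l', l = b :: l' := by
        cases l with
        | nil => simp at h1
        | cons b l' => exact ⟨b, l', rfl⟩
      simp only [List.length_cons, add_left_inj, List.sum_cons, List.map_cons] at h1 h2 h3
      have h0 := sumsq_nonneg l'
      have hs := sq_sum_le l'
      rw [h1] at hs
      refine ⟨b, ⟨List.mem_map.1 (mem_range12 (by linarith)), by linarith, ?_⟩, l', ?_, rfl⟩
      · rw [show s - b = l'.sum by linarith, show q - b * b = (l'.map fun b => b * b).sum by linarith]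
        exact hs
      · exact (mem_enumAll_iff r (s - b) (q - b * b) (by nlinarith) l').2 ⟨h1, by linarith, by linarith⟩

lemma nodup_enumAll : ∀ (r : ℕ) (s q : ℤ), (enumAll r s q).Nodup
  | 0, s, q => by simp only [enumAll]; split_ifs <;> simp
  | r + 1, s, q => by
    simp only [enumAll, List.nodup_flatMap]
    refine ⟨fun b _ => (nodup_enumAll r _ _).map (List.cons_injective), ?_⟩
    refine List.Pairwise.imp_of_mem ?_ ((List.nodup_range.map (fun a b h => by simpa using h)).filter _)
    intro a b _ _ hab l h1 h2
    simp only [List.mem_map] at h1 h2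
    obtain ⟨x, -, rfl⟩ := h1
    obtain ⟨y, -, hy⟩ := h2
    exact hab (List.cons.inj hy).1.symm

end Groth.Agent.H28DP
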