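import Groth.Agent.H28DP.Orbits

/-!
# Counting conic classes
-/

namespace Groth.Agent.H28DP

open W4c3severiratdp

variable {δ : ℕ}

/-- Degrees of conics. -/
def conicDegs : List ℤ := (List.range 12).map fun k : ℕ => (k : ℤ)

/-- All conic classes, by degree. -/
def conics (δ : ℕ) : List (List ℤ) :=
  conicDegs.flatMap fun a => (enumAll δ (3 * a - 2) (a * a)).map (List.cons a)

theorem ncard_conics (δ : ℕ) (hδ : δ ≤ 8) : {v : DP δ | IsConic v}.ncard = (conics δ).length := by
  rw [← Set.ncard_image_of_injective _ (List.ofFn_injective (n := δ + 1))]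
  have hnd : (conics δ).Nodup := by
    simp only [conics, List.nodup_flatMap]
    refine ⟨fun a _ => (nodup_enumAll _ _ _).map List.cons_injective, ?_⟩
    refine List.Pairwise.imp_of_mem ?_ (List.nodup_range.map (fun a b h => by simpa using h))
    intro a b _ _ hab l h1 h2
    simp only [List.mem_map] at h1 h2
    obtain ⟨x, -, rfl⟩ := h1
    obtain ⟨y, -, hy⟩ := h2
    exact hab (List.cons.inj hy).1.symm
  rw [← List.toFinset_card_of_nodup hnd, ← Set.ncard_coe_finset]
  congr 1
  ext l
  simp only [Set.mem_image, Set.mem_setOf_eq, List.coe_toFinset, conics, List.mem_flatMap, List.mem_map]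
  constructor
  · rintro ⟨v, ⟨he, hk⟩, rfl⟩
    obtain ⟨ha, hq, ha'⟩ := bounds v hδ 0 (-2) (Or.inl ⟨rfl, rfl⟩) he hk
    obtain ⟨h1, h2⟩ := sums v 0 (-2) he hk
    have h0 : 0 ≤ v 0 ∧ v 0 ≤ 11 := by
      simp only [sub_zero] at h2 hq
      refine ⟨?_, by nlinarith⟩
      have h3 := sq_sum_le (List.ofFn fun i : Fin δ => v i.succ)
      have hn : (δ : ℤ) ≤ 8 := by exact_mod_cast hδ
      rw [h1, h2, List.length_ofFn] at h3
      nlinarith [mul_le_mul_of_nonneg_right hn (mul_self_nonneg (v 0))]
    refine ⟨v 0, List.mem_map.2 ⟨(v 0).toNat, List.mem_range.2 (by omega), by omega⟩,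
      List.ofFn (fun i : Fin δ => v i.succ), ?_, (List.ofFn_succ).symm⟩
    rw [mem_enumAll_iff _ _ _ (by simpa using hq)]
    exact ⟨List.length_ofFn .., by rw [h1]; ring, by rw [h2, sub_zero]⟩
  · rintro ⟨a, ha, t, ht, rfl⟩
    have hq : a * a ≤ 143 := by
      simp only [conicDegs, List.mem_map, List.mem_range] at ha
      obtain ⟨k, hk, rfl⟩ := ha
      nlinarith
    obtain ⟨hl, hs, hq'⟩ := (mem_enumAll_iff _ _ _ hq t).1 ht
    subst hl
    refine ⟨Fin.cons a t.get, ?_, by simp [List.ofFn_succ, List.ofFn_get]⟩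
    have e1 : ∑ i, t.get i = 3 * a - 2 := by rw [← hs, ← List.sum_ofFn, List.ofFn_get]
    have e2 : ∑ i, t.get i * t.get i = a * a := by
      rw [← hq']
      conv_rhs => rw [← List.ofFn_get t, List.map_ofFn, List.sum_ofFn]
      rfl
    unfold IsConic form
    simp only [canon, Fin.cons_zero, Fin.cons_succ, Fin.cases_zero, Fin.cases_succ, neg_mul, one_mul,
      Finset.sum_neg_distrib]
    constructor <;> linarith

end Groth.Agent.H28DP
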