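import Groth.Agent.H28DP.Orbits

/-!
# Orbits of exceptional classes under a stabilizer
-/

namespace Groth.Agent.H28DP

open W4c3severiratdp

/-- Normal forms of exceptional classes relative to `e₁`. -/
def normalsE : List (List ℤ) :=
  [[0, -1, 0, 0, 0, 0, 0, 0, 0], [0, 0, 0, 0, 0, 0, 0, 0, -1], [1, 1, 1, 0, 0, 0, 0, 0, 0],
    [3, 2, 1, 1, 1, 1, 1, 1, 0], [6, 3, 2, 2, 2, 2, 2, 2, 2]]

theorem exc_normal (v : DP 8) (hv : IsExc v) :
    ∃ l ∈ normalsE, Conn (fun f => f = stdE 8) v (toVec 8 l) := by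
  have hroot : IsRoot (toVec 8 [1, 0, 1, 1, 1]) ∧ toVec 8 [1, 0, 1, 1, 1] 0 = 1 ∧
      form (stdE 8) (toVec 8 [1, 0, 1, 1, 1]) = 0 := by decide +kernel
  refine reduce _ le_rfl (-1) (-1) (Or.inr ⟨rfl, rfl⟩) (typesFix 8 (-1) (-1)) normalsE
    [toVec 8 [1, 0, 1, 1, 1]] ?_ ?_ (by decide +kernel) v hv.1 hv.2
  · intro α hα
    rw [List.mem_singleton] at hα
    subst hα
    exact ⟨hroot.1, hroot.2.1, fun f (hf : f = stdE 8) => by subst hf; exact hroot.2.2⟩
  · intro w hw hw'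
    exact sort_fix _ (fun f (hf : f = stdE 8) => by subst hf; exact isFixable_stdE) w le_rfl (-1) (-1)
      (Or.inr ⟨rfl, rfl⟩) hw hw'

lemma IsExc.map {v : DP 8} (hv : IsExc v) {g : DP 8 ≃ₗ[ℤ] DP 8} (hg : IsWeyl g) : IsExc (g v) :=
  ⟨by rw [hg.1]; exact hv.1, by rw [← hg.2, hg.1]; exact hv.2⟩

lemma isWeyl_trans {δ : ℕ} {g g' : DP δ ≃ₗ[ℤ] DP δ} (hg : IsWeyl g) (hg' : IsWeyl g') : IsWeyl (g.trans g') :=
  ⟨fun a b => by simp [hg'.1, hg.1], by simp [hg.2, hg'.2]⟩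

lemma isWeyl_symm {δ : ℕ} {g : DP δ ≃ₗ[ℤ] DP δ} (hg : IsWeyl g) : IsWeyl g.symm := by
  refine ⟨fun a b => ?_, g.symm_apply_eq.2 hg.2.symm⟩
  conv_rhs => rw [← g.apply_symm_apply a, ← g.apply_symm_apply b]
  rw [hg.1]

/-- Move an exceptional class and a second one to normal position. -/
theorem exc_pair_normal (L v : DP 8) (hL : IsExc L) (hv : IsExc v) :
    ∃ l ∈ normalsE, ∃ g : DP 8 ≃ₗ[ℤ] DP 8, IsWeyl g ∧ g L = stdE 8 ∧ g v = toVec 8 l := by
  obtain ⟨g, hg, -, e1⟩ := exc_standard L hL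
  obtain ⟨l, hl, g', hg', hF, e2⟩ := exc_normal (g v) (IsExc.map hv hg)
  exact ⟨l, hl, g.trans g', isWeyl_trans hg hg', by simp [e1, hF _ rfl], by simp [e2]⟩

theorem exc_trans (L L₁ L₂ : DP 8) (hL : IsExc L) (h₁ : IsExc L₁) (h₂ : IsExc L₂)
    (h : form L₁ L = form L₂ L) : Conn (fun f => f = L) L₁ L₂ := by
  obtain ⟨l, hl, g, hg, e1, e2⟩ := exc_pair_normal L L₁ hL h₁
  obtain ⟨l', hl', g', hg', e1', e2'⟩ := exc_pair_normal L L₂ hL h₂
  have huniq : ∀ l ∈ normalsE, ∀ l' ∈ normalsE,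
      form (toVec 8 l) (stdE 8) = form (toVec 8 l') (stdE 8) → l = l' := by decide +kernel
  have f1 : form (toVec 8 l) (stdE 8) = form L₁ L := by rw [← e2, ← e1, hg.1]
  have f2 : form (toVec 8 l') (stdE 8) = form L₂ L := by rw [← e2', ← e1', hg'.1]
  have hll := huniq l hl l' hl' (by rw [f1, f2, h])
  subst hll
  refine ⟨g.trans g'.symm, isWeyl_trans hg (isWeyl_symm hg'), fun f (hf : f = L) => ?_, ?_⟩
  · subst hf
    simp only [LinearEquiv.trans_apply, e1]
    exact g'.symm_apply_eq.2 e1'.symm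
  · simp only [LinearEquiv.trans_apply, e2]
    exact g'.symm_apply_eq.2 e2'.symm

lemma form_range (x y : DP 8) (hx : IsExc x) (hy : IsExc y) :
    -1 ≤ form x y ∧ form x y ≤ 3 ∧ (form x y = -1 → y = x) := by
  obtain ⟨l, hl, g, hg, e1, e2⟩ := exc_pair_normal x y hx hy
  have hr : ∀ l ∈ normalsE, -1 ≤ form (stdE 8) (toVec 8 l) ∧ form (stdE 8) (toVec 8 l) ≤ 3 ∧
      (form (stdE 8) (toVec 8 l) = -1 → toVec 8 l = stdE 8) := by decide +kernel
  obtain ⟨a, b, c⟩ := hr l hl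
  rw [← e1, ← e2, hg.1] at a b c
  exact ⟨a, b, fun h => g.injective (c h)⟩

lemma sort_three (a : Fin 3 → ℤ) (h : ∀ i, -1 ≤ a i ∧ a i ≤ 3) (hsum : a 0 + a 1 + a 2 = 1) :
    ∃ σ : Equiv.Perm (Fin 3), (a (σ 0) = -1 ∧ a (σ 1) = -1) ∨ (a (σ 0) = -1 ∧ a (σ 1) = 0) ∨
      (a (σ 0) = -1 ∧ a (σ 1) = 1) ∨ (a (σ 0) = 1 ∧ a (σ 1) = 0 ∧ a (σ 2) = 0) := by
  have key : ∀ b : Fin 3 → Fin 5, (b 0 : ℕ) + b 1 + b 2 = 4 → ∃ σ : Equiv.Perm (Fin 3),
      ((b (σ 0) : ℕ) = 0 ∧ (b (σ 1) : ℕ) = 0) ∨ ((b (σ 0) : ℕ) = 0 ∧ (b (σ 1) : ℕ) = 1) ∨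
      ((b (σ 0) : ℕ) = 0 ∧ (b (σ 1) : ℕ) = 2) ∨
      ((b (σ 0) : ℕ) = 2 ∧ (b (σ 1) : ℕ) = 1 ∧ (b (σ 2) : ℕ) = 1) := by decide +kernel
  have hb : ∀ i, (a i + 1).toNat < 5 := fun i => by have := h i; omega
  obtain ⟨σ, hσ⟩ := key (fun i => ⟨(a i + 1).toNat, hb i⟩) (by
    have := h 0; have := h 1; have := h 2
    simp only
    omega)
  refine ⟨σ, ?_⟩
  simp only at hσ
  have := h (σ 0); have := h (σ 1); have := h (σ 2)
  omega

lemma sum_perm {δ : ℕ} (t : Fin 3 → DP δ) (σ : Equiv.Perm (Fin 3)) :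
    t (σ 0) + t (σ 1) + t (σ 2) = t 0 + t 1 + t 2 := by
  have := Equiv.sum_comp σ t
  simpa [Fin.sum_univ_three] using this

/-- A triple can be carried to another with the same ordered intersection numbers with `L`. -/
theorem triple_conn (L : DP 8) (hL : IsExc L) (t r : Fin 3 → DP 8) (ht : ∀ i, IsExc (t i)) (hr : ∀ i, IsExc (r i))
    (hts : t 0 + t 1 + t 2 = L - 2 • canon 8) (hrs : r 0 + r 1 + r 2 = L - 2 • canon 8)
    (h : ∀ i, form L (t i) = form L (r i))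
    (hcase : form L (t 0) = -1 ∨ (form L (t 0) = 1 ∧ form L (t 1) = 0 ∧ form L (t 2) = 0)) :
    ∃ g : DP 8 ≃ₗ[ℤ] DP 8, IsWeyl g ∧ g L = L ∧ ∃ σ : Equiv.Perm (Fin 3), ∀ i, g (t (σ i)) = r i := by
  rcases hcase with h0 | ⟨h0, h1, h2⟩
  · have t0 : t 0 = L := (form_range L (t 0) hL (ht 0)).2.2 h0
    have r0 : r 0 = L := (form_range L (r 0) hL (hr 0)).2.2 (by rw [← h, h0])
    obtain ⟨g, hg, hgL, e⟩ := exc_trans L (t 1) (r 1) hL (ht 1) (hr 1)
      (by rw [form_comm, h 1, form_comm])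
    have hgL' : g L = L := hgL L rfl
    refine ⟨g, hg, hgL', 1, fun i => ?_⟩
    have hsum : g (t 0 + t 1 + t 2) = r 0 + r 1 + r 2 := by
      rw [hts, hrs, map_sub, map_nsmul, hgL', hg.2]
    rw [map_add, map_add, t0, r0, hgL', e] at hsum
    have e2 : g (t 2) = r 2 := add_left_cancel hsum
    fin_cases i
    · simp [t0, r0, hgL']
    · simpa using e
    · simpa using e2
  · obtain ⟨g, hg, hgL, e⟩ := exc_trans L (t 0) (r 0) hL (ht 0) (hr 0)
      (by rw [form_comm, h 0, form_comm])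
    have hgL' : g L = L := hgL L rfl
    have hsum : r 0 + g (t 1) + g (t 2) = r 0 + r 1 + r 2 := by
      rw [← e, ← map_add, ← map_add, hts, e, hrs, map_sub, map_nsmul, hgL', hg.2]
    set x := g (t 1) with hxdef
    set z := g (t 2) with hzdef
    have hx : IsExc x := IsExc.map (ht 1) hg
    have hz : IsExc z := IsExc.map (ht 2) hg
    have fL : ∀ v, form L (g v) = form L v := fun v => by
      conv_lhs => rw [← hgL']
      exact hg.1 L v
    have hxL : form L x = 0 := by rw [hxdef, fL]; exact h1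
    have hzL : form L z = 0 := by rw [hzdef, fL]; exact h2
    have r1L : form L (r 1) = 0 := by rw [← h]; exact h1
    have r0L : form L (r 0) = 1 := by rw [← h]; exact h0
    have hT : ∀ v, IsExc v → form v (r 0) + form v x + form v z = form L v + 2 := by
      intro v hv
      rw [← form_add_right, ← form_add_right, hsum, hrs, form_sub_right, two_nsmul, form_add_right,
        form_comm v (canon 8), hv.2, form_comm v L]
      ring
    have hT' : ∀ v, IsExc v → form v (r 0) + form v (r 1) + form v (r 2) = form L v + 2 := by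
      intro v hv
      have := hT v hv
      rw [← form_add_right, ← form_add_right, hsum, form_add_right, form_add_right] at this
      exact this
    have a0 := hT (r 0) (hr 0); have a1 := hT x hx; have a2 := hT z hz
    have a3 := hT (r 1) (hr 1)
    have b0 := hT' (r 0) (hr 0); have b1 := hT' (r 1) (hr 1); have b2 := hT' (r 2) (hr 2)
    rw [(hr 0).1, r0L] at a0 b0
    rw [hx.1, hxL, form_comm x (r 0)] at a1
    rw [hz.1, hzL, form_comm z (r 0), form_comm z x] at a2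
    rw [(hr 1).1, r1L, form_comm (r 1) (r 0)] at b1
    rw [(hr 2).1, show form L (r 2) = 0 by rw [← h]; exact h2, form_comm (r 2) (r 0), form_comm (r 2) (r 1)] at b2
    rw [r1L, form_comm (r 1) (r 0)] at a3
    have hxr : form (r 0) x = 2 := by omega
    have hr1 : form (r 0) (r 1) = 2 := by omega
    have m1 := form_range (r 1) x (hr 1) hx
    have m2 := form_range (r 1) z (hr 1) hz
    rcases (show form (r 1) x = -1 ∨ form (r 1) x = 0 ∨ form (r 1) x = 1 by omega) with hm | hm | hm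
    · have ex : x = r 1 := m1.2.2 hm
      refine ⟨g, hg, hgL', 1, fun i => ?_⟩
      fin_cases i
      · simpa using e
      · simpa using hxdef.symm.trans ex
      · rw [ex] at hsum
        simpa using hzdef.symm.trans (add_left_cancel hsum)
    · obtain ⟨k, hk, hkF, ek⟩ := Conn.of_sub (F := fun f => f = L ∨ f = r 0) hx.1 (hr 1).1
        (by rw [hx.2, (hr 1).2]) (by rw [form_comm]; exact hm) (by
          rintro f (rfl | rfl)
          · rw [hxL, r1L]
          · rw [hxr, hr1])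
      have kL : k L = L := hkF L (Or.inl rfl)
      have k0 : k (r 0) = r 0 := hkF _ (Or.inr rfl)
      refine ⟨g.trans k, isWeyl_trans hg hk, by simp [hgL', kL], 1, fun i => ?_⟩
      have hsum' : k (r 0) + k x + k z = r 0 + r 1 + r 2 := by
        rw [← map_add, ← map_add, hsum, hrs, map_sub, map_nsmul, kL, hk.2]
      rw [k0, ek] at hsum'
      fin_cases i
      · simp [e, k0]
      · simpa using ek
      · simpa using (add_left_cancel hsum')
    · have ez : z = r 1 := m2.2.2 (by omega)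
      refine ⟨g, hg, hgL', Equiv.swap 1 2, fun i => ?_⟩
      have ex : x = r 2 := by
        rw [ez, add_right_comm] at hsum
        exact add_left_cancel hsum
      fin_cases i
      · simpa [Equiv.swap_apply_of_ne_of_ne] using e
      · simpa using hzdef.symm.trans ez
      · simpa using hxdef.symm.trans ex

/-- Standard representatives of triples. -/
def stdTriple : Fin 4 → Fin 3 → DP 8 :=
  ![![stdE 8, stdE 8, toVec 8 [6, 3, 2, 2, 2, 2, 2, 2, 2]],
    ![stdE 8, toVec 8 [0, 0, 0, 0, 0, 0, 0, 0, -1], toVec 8 [6, 2, 2, 2, 2, 2, 2, 2, 3]],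
    ![stdE 8, toVec 8 [1, 1, 1, 0, 0, 0, 0, 0, 0], toVec 8 [5, 1, 1, 2, 2, 2, 2, 2, 2]],
    ![toVec 8 [1, 1, 1, 0, 0, 0, 0, 0, 0], toVec 8 [2, 0, 0, 1, 1, 1, 1, 1, 0],
      toVec 8 [3, 0, 1, 1, 1, 1, 1, 1, 2]]]

theorem triples (L : DP 8) (hL : IsExc L) :
    ∃ r : Fin 4 → (Fin 3 → DP 8),
      (∀ j, (∀ i, IsExc (r j i)) ∧ r j 0 + r j 1 + r j 2 = L - 2 • canon 8) ∧
      (∀ j j', (∃ g : DP 8 ≃ₗ[ℤ] DP 8, IsWeyl g ∧ g L = L ∧ ∃ σ : Equiv.Perm (Fin 3), ∀ i, g (r j (σ i)) = r j' i) → j = j') ∧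
      ∀ t : Fin 3 → DP 8, (∀ i, IsExc (t i)) → t 0 + t 1 + t 2 = L - 2 • canon 8 →
        ∃ j, ∃ g : DP 8 ≃ₗ[ℤ] DP 8, IsWeyl g ∧ g L = L ∧ ∃ σ : Equiv.Perm (Fin 3), ∀ i, g (t (σ i)) = r j i := by
  obtain ⟨g₀, hg₀, -, e0⟩ := exc_standard L hL
  let r : Fin 4 → Fin 3 → DP 8 := fun j i => g₀.symm (stdTriple j i)
  have hinv := isWeyl_symm hg₀
  have hstd : ∀ j i, form (stdTriple j i) (stdTriple j i) = -1 ∧ form (canon 8) (stdTriple j i) = -1 := by
    decide +kernel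
  have hsum : ∀ j, stdTriple j 0 + stdTriple j 1 + stdTriple j 2 = stdE 8 - 2 • canon 8 := by decide +kernel
  have hexc : ∀ j i, IsExc (r j i) := fun j i => IsExc.map ⟨(hstd j i).1, (hstd j i).2⟩ hinv
  have hrs : ∀ j, r j 0 + r j 1 + r j 2 = L - 2 • canon 8 := fun j => by
    simp only [r]
    rw [← map_add, ← map_add, hsum, map_sub, map_nsmul, hinv.2, g₀.symm_apply_eq.2 e0.symm]
  have hfL : ∀ j i, form L (r j i) = form (stdE 8) (stdTriple j i) := fun j i => by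
    rw [← hg₀.1, e0, g₀.apply_symm_apply]
  refine ⟨r, fun j => ⟨hexc j, hrs j⟩, ?_, ?_⟩
  · rintro j j' ⟨g, hg, hgL, σ, hσ⟩
    have key : ∀ i, form L (r j (σ i)) = form L (r j' i) := fun i => by
      rw [← hσ i]
      conv_rhs => rw [← hgL]
      rw [hg.1]
    have heq : ∑ i, form L (r j i) ^ 2 = ∑ i, form L (r j' i) ^ 2 := by
      rw [← Equiv.sum_comp σ (fun i => form L (r j i) ^ 2)]
      simp only [key]
    simp only [hfL] at heq
    have key2 : ∀ j j' : Fin 4, ∑ i, form (stdE 8) (stdTriple j i) ^ 2 =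
        ∑ i, form (stdE 8) (stdTriple j' i) ^ 2 → j = j' := by decide +kernel
    exact key2 j j' heq
  · intro t ht hts
    have hrange : ∀ i, -1 ≤ form L (t i) ∧ form L (t i) ≤ 3 := fun i =>
      ⟨(form_range L (t i) hL (ht i)).1, (form_range L (t i) hL (ht i)).2.1⟩
    have hone : form L (t 0) + form L (t 1) + form L (t 2) = 1 := by
      rw [← form_add_right, ← form_add_right, hts, form_sub_right, two_nsmul, form_add_right, hL.1,
        form_comm L (canon 8), hL.2]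
      norm_num
    obtain ⟨σ, hσ⟩ := sort_three (fun i => form L (t i)) hrange hone
    have hts' : t (σ 0) + t (σ 1) + t (σ 2) = L - 2 • canon 8 := by rw [sum_perm, hts]
    have hs' : form L (t (σ 0)) + form L (t (σ 1)) + form L (t (σ 2)) = 1 := by
      rw [← form_add_right, ← form_add_right, sum_perm, form_add_right, form_add_right, hone]
    have fin : ∀ j, (∀ i, form L (t (σ i)) = form L (r j i)) →
        (form L (t (σ 0)) = -1 ∨ (form L (t (σ 0)) = 1 ∧ form L (t (σ 1)) = 0 ∧ form L (t (σ 2)) = 0)) →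
        ∃ j, ∃ g : DP 8 ≃ₗ[ℤ] DP 8, IsWeyl g ∧ g L = L ∧ ∃ σ : Equiv.Perm (Fin 3), ∀ i, g (t (σ i)) = r j i := by
      intro j hj hc
      obtain ⟨g, hg, hgL, τ, hτ⟩ := triple_conn L hL (fun i => t (σ i)) (r j) (fun i => ht _) (hexc j)
        hts' (hrs j) hj hc
      exact ⟨j, g, hg, hgL, τ.trans σ, hτ⟩
    have hval : ∀ j, form L (r j 0) = ![-1, -1, -1, 1] j ∧ form L (r j 1) = ![-1, 0, 1, 0] j ∧
        form L (r j 2) = ![3, 2, 1, 0] j := by
      simp only [hfL]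
      decide +kernel
    have fin' : ∀ j, form L (t (σ 0)) = ![-1, -1, -1, 1] j → form L (t (σ 1)) = ![-1, 0, 1, 0] j →
        form L (t (σ 2)) = ![3, 2, 1, 0] j →
        ∃ j, ∃ g : DP 8 ≃ₗ[ℤ] DP 8, IsWeyl g ∧ g L = L ∧ ∃ σ : Equiv.Perm (Fin 3), ∀ i, g (t (σ i)) = r j i := by
      intro j c0 c1 c2
      refine fin j (fun i => ?_) ?_
      · obtain ⟨v0, v1, v2⟩ := hval j
        fin_cases i
        · exact c0.trans v0.symm
        · exact c1.trans v1.symm
        · exact c2.trans v2.symm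
      · fin_cases j <;> simp_all
    try simp only at hσ
    rcases hσ with ⟨a, b⟩ | ⟨a, b⟩ | ⟨a, b⟩ | ⟨a, b, c⟩
    · exact fin' 0 a b (by simp; omega)
    · exact fin' 1 a b (by simp; omega)
    · exact fin' 2 a b (by simp; omega)
    · exact fin' 3 a b c

end Groth.Agent.H28DP
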