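import Groth.Agent.H28DP.Basic
import Mathlib.Tactic.IntervalCases

/-!
# Orbits of conic and exceptional classes
-/

namespace Groth.Agent.H28DP

open W4c3severiratdp

variable {n δ : ℕ}

instance : DecidablePred (IsRoot (δ := δ)) := fun α => inferInstanceAs (Decidable (_ ∧ _))

/-- Values of the degree. -/
def degs : List ℤ := (List.range 15).map fun k : ℕ => (k : ℤ) - 2

/-- Classes with sorted coordinates. -/
def typesAll (δ : ℕ) (e k : ℤ) : List (List ℤ) :=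
  degs.flatMap fun a => (enum δ (3 * a + k) (a * a - e) 12).map (List.cons a)

/-- Classes whose coordinates after the first one are sorted. -/
def typesFix (δ : ℕ) (e k : ℤ) : List (List ℤ) :=
  degs.flatMap fun a => (((List.range 24).map fun j : ℕ => (j : ℤ) - 12).filter
    fun b => decide (b * b ≤ a * a - e)).flatMap fun b =>
      (enum (δ - 1) (3 * a + k - b) (a * a - e - b * b) 12).map fun t => a :: b :: t

/-- Conic or exceptional data. -/
def Kind (e k : ℤ) : Prop := (e = 0 ∧ k = -2) ∨ (e = -1 ∧ k = -1)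

lemma sums (v : DP δ) (e k : ℤ) (he : form v v = e) (hk : form (canon δ) v = k) :
    (List.ofFn fun i : Fin δ => v i.succ).sum = 3 * v 0 + k ∧
      ((List.ofFn fun i : Fin δ => v i.succ).map fun b => b * b).sum = v 0 * v 0 - e := by
  unfold form at he hk
  simp only [canon, Fin.cases_zero, Fin.cases_succ, neg_mul, one_mul, Finset.sum_neg_distrib, sub_neg_eq_add] at hk
  simp only [List.map_ofFn, Function.comp_def, List.sum_ofFn]
  constructor <;> linarith

lemma bounds (v : DP δ) (hδ : δ ≤ 8) (e k : ℤ) (h : Kind e k) (he : form v v = e) (hk : form (canon δ) v = k) :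
    v 0 ∈ degs ∧ v 0 * v 0 - e ≤ 143 ∧ -1 ≤ v 0 := by
  obtain ⟨h1, h2⟩ := sums v e k he hk
  have h3 := sq_sum_le (List.ofFn fun i : Fin δ => v i.succ)
  have h4 := sumsq_nonneg (List.ofFn fun i : Fin δ => v i.succ)
  rw [h1, h2, List.length_ofFn] at h3
  rw [h2] at h4
  have hδ' : (δ : ℤ) ≤ 8 := by exact_mod_cast hδ
  have h5 : (3 * v 0 + k) * (3 * v 0 + k) ≤ 8 * (v 0 * v 0 - e) :=
    h3.trans (mul_le_mul_of_nonneg_right hδ' h4)
  have ha : -1 ≤ v 0 ∧ v 0 ≤ 11 := by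
    rcases h with ⟨rfl, rfl⟩ | ⟨rfl, rfl⟩ <;> constructor <;> nlinarith
  refine ⟨List.mem_map.2 ⟨(v 0 + 2).toNat, List.mem_range.2 (by omega), by omega⟩, ?_, ha.1⟩
  rcases h with ⟨rfl, rfl⟩ | ⟨rfl, rfl⟩ <;> nlinarith

lemma le_twelve {b q : ℤ} (hq : q ≤ 143) (h : b * b ≤ q) : b ≤ 12 := by nlinarith

lemma mem_typesAll (v : DP δ) (hδ : δ ≤ 8) (e k : ℤ) (h : Kind e k) (he : form v v = e)
    (hk : form (canon δ) v = k) (hs : Antitone fun i : Fin δ => v i.succ) :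
    List.ofFn v ∈ typesAll δ e k := by
  obtain ⟨ha, hq, -⟩ := bounds v hδ e k h he hk
  obtain ⟨h1, h2⟩ := sums v e k he hk
  simp only [typesAll, List.mem_flatMap, List.mem_map]
  refine ⟨v 0, ha, List.ofFn (fun i : Fin δ => v i.succ), ?_, (List.ofFn_succ).symm⟩
  have := mem_enum (List.ofFn fun i : Fin δ => v i.succ) 12 (by rw [h2]; exact hq) ?_
  · rwa [List.length_ofFn, h1, h2] at this
  rw [List.pairwise_cons]
  refine ⟨fun b hb => le_twelve hq ?_, List.pairwise_ofFn.2 fun i j hij => hs hij.le⟩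
  rw [← h2]
  obtain ⟨i, rfl⟩ := List.mem_ofFn.1 hb
  simp only [List.map_ofFn, List.sum_ofFn, Function.comp_def]
  exact Finset.single_le_sum (f := fun j : Fin δ => v j.succ * v j.succ) (fun j _ => mul_self_nonneg _)
    (Finset.mem_univ i)

lemma mem_typesFix (v : DP (n + 1)) (hn : n + 1 ≤ 8) (e k : ℤ) (h : Kind e k) (he : form v v = e)
    (hk : form (canon (n + 1)) v = k) (hs : Antitone fun i : Fin n => v i.succ.succ) :
    List.ofFn v ∈ typesFix (n + 1) e k := by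
  obtain ⟨ha, hq, -⟩ := bounds v hn e k h he hk
  obtain ⟨h1, h2⟩ := sums v e k he hk
  rw [List.ofFn_succ, List.sum_cons] at h1
  rw [List.ofFn_succ, List.map_cons, List.sum_cons] at h2
  have hb := sumsq_nonneg (List.ofFn fun i : Fin n => v i.succ.succ)
  simp only [typesFix, List.mem_flatMap, List.mem_map, List.mem_filter, decide_eq_true_eq, Nat.add_sub_cancel]
  have hb1 : v (Fin.succ 0) * v (Fin.succ 0) ≤ v 0 * v 0 - e := by linarith
  refine ⟨v 0, ha, v (Fin.succ 0), ⟨List.mem_map.1 (mem_range12 (by linarith)), hb1⟩,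
    List.ofFn (fun i : Fin n => v i.succ.succ), ?_, ?_⟩
  · have := mem_enum (List.ofFn fun i : Fin n => v i.succ.succ) 12
      (by nlinarith [mul_self_nonneg (v (Fin.succ 0))]) ?_
    · rw [List.length_ofFn] at this
      rw [show 3 * v 0 + k - v (Fin.succ 0) = (List.ofFn fun i : Fin n => v i.succ.succ).sum by linarith,
        show v 0 * v 0 - e - v (Fin.succ 0) * v (Fin.succ 0) =
          ((List.ofFn fun i : Fin n => v i.succ.succ).map fun b => b * b).sum by linarith]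
      exact this
    rw [List.pairwise_cons]
    refine ⟨fun b hb' => le_twelve hq ?_, List.pairwise_ofFn.2 fun i j hij => hs hij.le⟩
    have hle : b * b ≤ ((List.ofFn fun i : Fin n => v i.succ.succ).map fun b => b * b).sum := by
      obtain ⟨i, rfl⟩ := List.mem_ofFn.1 hb'
      simp only [List.map_ofFn, List.sum_ofFn, Function.comp_def]
      exact Finset.single_le_sum (f := fun j : Fin n => v j.succ.succ * v j.succ.succ)
        (fun j _ => mul_self_nonneg _) (Finset.mem_univ i)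
    linarith [mul_self_nonneg (v (Fin.succ 0))]
  · rw [List.ofFn_succ, List.ofFn_succ]

/-- Weakly decreasing rearrangement. -/
lemma exists_sort {m : ℕ} (f : Fin m → ℤ) : ∃ σ : Equiv.Perm (Fin m), Antitone (f ∘ σ) := by
  refine ⟨Tuple.sort (fun i => - f i), fun i j h => ?_⟩
  have := Tuple.monotone_sort (fun i => - f i) h
  simp only [Function.comp_apply] at this ⊢
  omega

lemma sort_all (v : DP δ) (hδ : δ ≤ 8) (e k : ℤ) (h : Kind e k) (he : form v v = e)
    (hk : form (canon δ) v = k) :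
    ∃ w, Conn (fun _ => False) v w ∧ w 0 = v 0 ∧ List.ofFn w ∈ typesAll δ e k := by
  obtain ⟨σ, hσ⟩ := exists_sort (fun i : Fin δ => v i.succ)
  have hc : Conn (fun _ => False) v (permute σ v) :=
    ⟨permute σ, isWeyl_permute σ, fun _ hf => hf.elim, rfl⟩
  refine ⟨permute σ v, hc, permute_zero σ v, mem_typesAll _ hδ e k h (by rw [hc.form_self_eq, he])
    (by rw [hc.canon_eq, hk]) ?_⟩
  simpa [permute_succ, Function.comp_def] using hσ

/-- Vectors constant on the coordinates after the first one. -/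
def IsFixable (f : DP (n + 1)) : Prop := ∀ i j : Fin n, f i.succ.succ = f j.succ.succ

lemma sort_fix (F : DP (n + 1) → Prop) (hF : ∀ f, F f → IsFixable f) (v : DP (n + 1)) (hn : n + 1 ≤ 8)
    (e k : ℤ) (h : Kind e k) (he : form v v = e) (hk : form (canon (n + 1)) v = k) :
    ∃ w, Conn F v w ∧ w 0 = v 0 ∧ List.ofFn w ∈ typesFix (n + 1) e k := by
  obtain ⟨σ, hσ⟩ := exists_sort (fun i : Fin n => v i.succ.succ)
  let τ : Equiv.Perm (Fin (n + 1)) := Equiv.Perm.decomposeFin.symm (0, σ)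
  have hc : Conn F v (permute τ v) := by
    refine ⟨permute τ, isWeyl_permute τ, fun f hf => ?_, rfl⟩
    funext i
    cases i using Fin.cases with
    | zero => exact permute_zero τ f
    | succ i =>
      cases i using Fin.cases with
      | zero => rw [permute_succ]; simp [τ]
      | succ i => rw [permute_succ]; simp [τ, hF f hf (σ i) i]
  refine ⟨permute τ v, hc, permute_zero τ v, mem_typesFix _ hn e k h (by rw [hc.form_self_eq, he])
    (by rw [hc.canon_eq, hk]) ?_⟩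
  simpa [permute_succ, τ, Function.comp_def] using hσ

/-- The reduction engine. -/
theorem reduce (F : DP δ → Prop) (hδ : δ ≤ 8) (e k : ℤ) (h : Kind e k) (cands normals : List (List ℤ))
    (roots : List (DP δ))
    (hroot : ∀ α ∈ roots, IsRoot α ∧ α 0 = 1 ∧ ∀ f, F f → form f α = 0)
    (hsort : ∀ v, form v v = e → form (canon δ) v = k → ∃ w, Conn F v w ∧ w 0 = v 0 ∧ List.ofFn w ∈ cands)
    (hcheck : ∀ l ∈ cands, l ∈ normals ∨ ∃ α ∈ roots, form (toVec δ l) α < 0) :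
    ∀ v, form v v = e → form (canon δ) v = k → ∃ l ∈ normals, Conn F v (toVec δ l) := by
  suffices ∀ (m : ℕ) (v : DP δ), (v 0 + 1).toNat ≤ m → form v v = e → form (canon δ) v = k →
      ∃ l ∈ normals, Conn F v (toVec δ l) from fun v => this _ v le_rfl
  intro m
  induction m using Nat.strong_induction_on with
  | _ m ih =>
    intro v hm he hk
    obtain ⟨w, hw, hw0, hmem⟩ := hsort v he hk
    rcases hcheck _ hmem with hl | ⟨α, hα, hneg⟩
    · exact ⟨_, hl, by rwa [toVec_ofFn]⟩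
    rw [toVec_ofFn] at hneg
    obtain ⟨hr, h0, hF⟩ := hroot α hα
    have hc := hw.trans (Conn.of_reflect α hr hF w)
    set u := w + form w α • α
    have hu0 : u 0 = v 0 + form w α := by simp [u, h0, hw0]
    have hb := (bounds u hδ e k h (by rw [hc.form_self_eq, he]) (by rw [hc.canon_eq, hk])).2.2
    obtain ⟨l, hl, hl'⟩ := ih ((u 0 + 1).toNat) (by omega) u le_rfl (by rw [hc.form_self_eq, he])
      (by rw [hc.canon_eq, hk])
    exact ⟨l, hl, hc.trans hl'⟩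

/-- The class `ℓ - e₁`. -/
def stdQ (δ : ℕ) : DP δ := toVec δ [1, 1]

/-- The class `e₁`. -/
def stdE (δ : ℕ) : DP δ := toVec δ [0, -1]

/-- Normal forms of conics relative to `ℓ - e₁`. -/
def normalsQ : ℕ → List (List ℤ)
  | 2 => [[1, 1, 0], [1, 0, 1]]
  | 3 => [[1, 1, 0, 0], [1, 0, 1, 0]]
  | 4 => [[1, 1, 0, 0, 0], [1, 0, 1, 0, 0]]
  | 5 => [[1, 1, 0, 0, 0, 0], [1, 0, 1, 0, 0, 0], [2, 0, 1, 1, 1, 1]]
  | 6 => [[1, 1, 0, 0, 0, 0, 0], [1, 0, 1, 0, 0, 0, 0], [2, 0, 1, 1, 1, 1, 0]]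
  | 7 => [[1, 1, 0, 0, 0, 0, 0, 0], [1, 0, 1, 0, 0, 0, 0, 0], [2, 0, 1, 1, 1, 1, 0, 0],
      [3, 0, 2, 1, 1, 1, 1, 1], [5, 1, 2, 2, 2, 2, 2, 2]]
  | 8 => [[1, 1, 0, 0, 0, 0, 0, 0, 0], [1, 0, 1, 0, 0, 0, 0, 0, 0], [2, 0, 1, 1, 1, 1, 0, 0, 0],
      [3, 0, 2, 1, 1, 1, 1, 1, 0], [4, 0, 2, 2, 2, 1, 1, 1, 1], [5, 1, 2, 2, 2, 2, 2, 2, 0],
      [5, 0, 2, 2, 2, 2, 2, 2, 1], [7, 1, 3, 3, 3, 3, 2, 2, 2], [8, 1, 3, 3, 3, 3, 3, 3, 3],
      [11, 3, 4, 4, 4, 4, 4, 4, 4]]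
  | _ => []

/-- The roots used to lower the degree. -/
def rootsQ : ℕ → List (List ℤ)
  | 0 | 1 | 2 => []
  | _ => [[1, 1, 1, 1]]

lemma isFixable_stdQ : IsFixable (stdQ (n + 1)) := by
  intro i j; simp [stdQ, toVec]

lemma isFixable_stdE : IsFixable (stdE (n + 1)) := by
  intro i j; simp [stdE, toVec]

theorem conic_standard (δ : ℕ) (h2 : 2 ≤ δ) (h8 : δ ≤ 8) (v : DP δ) (hv : IsConic v) :
    Conn (fun _ => False) v (stdQ δ) := by
  have hroot : ∀ α ∈ (rootsQ δ).map (toVec δ), IsRoot α ∧ α 0 = 1 := by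
    interval_cases δ <;> decide +kernel
  have hcheck : ∀ l ∈ typesAll δ 0 (-2), l ∈ [List.ofFn (stdQ δ)] ∨
      ∃ α ∈ (rootsQ δ).map (toVec δ), form (toVec δ l) α < 0 := by
    interval_cases δ <;> decide +kernel
  obtain ⟨l, hl, hc⟩ := reduce _ h8 0 (-2) (Or.inl ⟨rfl, rfl⟩) _ _ _
    (fun α hα => ⟨(hroot α hα).1, (hroot α hα).2, fun f hf => hf.elim⟩)
    (fun w hw hw' => sort_all w h8 0 (-2) (Or.inl ⟨rfl, rfl⟩) hw hw') hcheck v hv.1 hv.2
  rw [List.mem_singleton] at hl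
  rwa [hl, toVec_ofFn] at hc

theorem conic_normal (δ : ℕ) (h2 : 2 ≤ δ) (h8 : δ ≤ 8) (v : DP δ) (hv : IsConic v) :
    ∃ l ∈ normalsQ δ, Conn (fun f => f = stdQ δ) v (toVec δ l) := by
  have hroot : ∀ α ∈ (rootsQ δ).map (toVec δ), IsRoot α ∧ α 0 = 1 ∧ form (stdQ δ) α = 0 := by
    interval_cases δ <;> decide +kernel
  have hcheck : ∀ l ∈ typesFix δ 0 (-2), l ∈ normalsQ δ ∨
      ∃ α ∈ (rootsQ δ).map (toVec δ), form (toVec δ l) α < 0 := by
    interval_cases δ <;> decide +kernel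
  obtain ⟨m, rfl⟩ : ∃ m, δ = m + 1 := ⟨δ - 1, by omega⟩
  exact reduce _ h8 0 (-2) (Or.inl ⟨rfl, rfl⟩) _ _ _
    (fun α hα => ⟨(hroot α hα).1, (hroot α hα).2.1, fun f (hf : f = stdQ (m + 1)) => by subst hf; exact (hroot α hα).2.2⟩)
    (fun w hw hw' => sort_fix _ (fun f (hf : f = stdQ (m + 1)) => by subst hf; exact isFixable_stdQ) w h8 0 (-2) (Or.inl ⟨rfl, rfl⟩) hw hw')
    hcheck v hv.1 hv.2

/-- Move a pair of conics to a normal pair. -/
theorem conic_pair_normal (δ : ℕ) (h2 : 2 ≤ δ) (h8 : δ ≤ 8) (v₁ v₂ : DP δ) (h₁ : IsConic v₁) (h₂ : IsConic v₂) :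
    ∃ l ∈ normalsQ δ, ∃ g : DP δ ≃ₗ[ℤ] DP δ, IsWeyl g ∧ g v₁ = stdQ δ ∧ g v₂ = toVec δ l := by
  obtain ⟨g, hg, -, e1⟩ := conic_standard δ h2 h8 v₁ h₁
  obtain ⟨l, hl, g', hg', hF, e2⟩ := conic_normal δ h2 h8 (g v₂) ⟨by rw [hg.1]; exact h₂.1,
    by rw [← hg.2, hg.1]; exact h₂.2⟩
  exact ⟨l, hl, g.trans g', ⟨fun a b => by simp [hg'.1, hg.1], by simp [hg.2, hg'.2]⟩,
    by simp [e1, hF _ rfl], by simp [e2]⟩

lemma normalsQ_unique (δ : ℕ) (h2 : 2 ≤ δ) (h8 : δ ≤ 8) : ∀ l ∈ normalsQ δ, ∀ l' ∈ normalsQ δ,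
    form (stdQ δ) (toVec δ l) = form (stdQ δ) (toVec δ l') →
      l = l' ∨ (δ = 8 ∧ form (stdQ δ) (toVec δ l) = 4) := by
  interval_cases δ <;> decide +kernel

theorem exc_standard (v : DP 8) (hv : IsExc v) : Conn (fun _ => False) v (stdE 8) := by
  have hroot : ∀ α ∈ [toVec 8 [1, 1, 1, 1]], IsRoot α ∧ α 0 = 1 ∧ ∀ f, False → form f α = 0 := by
    intro α hα
    rw [List.mem_singleton] at hα
    subst hα
    exact ⟨⟨by decide +kernel, by decide +kernel⟩, by decide +kernel, fun _ hf => hf.elim⟩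
  obtain ⟨l, hl, hc⟩ := reduce _ le_rfl (-1) (-1) (Or.inr ⟨rfl, rfl⟩) _ [[0, 0, 0, 0, 0, 0, 0, 0, -1]] _
    hroot (fun w hw hw' => sort_all w le_rfl (-1) (-1) (Or.inr ⟨rfl, rfl⟩) hw hw')
    (by decide +kernel) v hv.1 hv.2
  rw [List.mem_singleton] at hl
  subst hl
  exact hc.trans (Conn.of_sub (by decide +kernel) (by decide +kernel) (by decide +kernel) (by decide +kernel)
    fun f hf => hf.elim)

end Groth.Agent.H28DP
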